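import Mathlib
import Groth.Agent.TransLib.Popescu
import Groth.Agent.CohenLib.RegularField
import Groth.Prelude.Def_Found

/-! Differentials of a geometrically regular algebra over a field are flat. -/

set_option autoImplicit false
universe u

open TensorProduct

namespace KaehlerFlatLib

variable {k A : Type u} [CommRing k] [CommRing A] [Algebra k A]

open Classical in
/-- The differentials of a subalgebra, evaluated on formal symbols. -/
noncomputable def eval (B : Subalgebra k A) : (A →₀ A) →ₗ[A] A ⊗[B] Ω[B⁄k] :=
  Finsupp.linearCombination A fun x => if h : x ∈ B then (1 : A) ⊗ₜ[B] KaehlerDifferential.D k B ⟨x, h⟩ else 0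

theorem eval_single (B : Subalgebra k A) (x : A) (hx : x ∈ B) (a : A) :
    eval B (Finsupp.single x a) = a ⊗ₜ[B] KaehlerDifferential.D k B ⟨x, hx⟩ := by
  rw [eval, Finsupp.linearCombination_single, dif_pos hx, TensorProduct.smul_tmul', smul_eq_mul, mul_one]

theorem exists_finset_eval_eq_zero (z : A →₀ A) (hz : z ∈ KaehlerDifferential.kerTotal k A) :
    ∃ S : Finset A, ∀ B : Subalgebra k A, (↑S : Set A) ⊆ B → eval B z = 0 := by
  classical
  induction hz using Submodule.span_induction with
  | zero => exact ⟨∅, fun B _ => map_zero _⟩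
  | add z z' _ _ h h' =>
    obtain ⟨S, hS⟩ := h
    obtain ⟨S', hS'⟩ := h'
    refine ⟨S ∪ S', fun B hB => ?_⟩
    rw [Finset.coe_union, Set.union_subset_iff] at hB
    rw [map_add, hS B hB.1, hS' B hB.2, add_zero]
  | smul a z _ h =>
    obtain ⟨S, hS⟩ := h
    exact ⟨S, fun B hB => by rw [map_smul, hS B hB, smul_zero]⟩
  | mem z hz =>
    rcases hz with (⟨⟨x, y⟩, rfl⟩ | ⟨⟨x, y⟩, rfl⟩) | ⟨r, rfl⟩
    · refine ⟨{x, y}, fun B hB => ?_⟩
      have hx : x ∈ B := hB (by simp)
      have hy : y ∈ B := hB (by simp)
      simp only [map_sub, map_add, eval_single B x hx, eval_single B y hy, eval_single B (x + y) (B.add_mem hx hy)]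
      rw [show (⟨x + y, B.add_mem hx hy⟩ : B) = ⟨x, hx⟩ + ⟨y, hy⟩ from rfl, map_add, TensorProduct.tmul_add, sub_self]
    · refine ⟨{x, y}, fun B hB => ?_⟩
      have hx : x ∈ B := hB (by simp)
      have hy : y ∈ B := hB (by simp)
      simp only [map_sub, map_add, eval_single B x hx, eval_single B y hy, eval_single B (x * y) (B.mul_mem hx hy)]
      rw [show (⟨x * y, B.mul_mem hx hy⟩ : B) = ⟨x, hx⟩ * ⟨y, hy⟩ from rfl, Derivation.leibniz,
        TensorProduct.tmul_add, TensorProduct.tmul_smul, TensorProduct.tmul_smul, TensorProduct.smul_tmul',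
        TensorProduct.smul_tmul', Algebra.smul_def, Algebra.smul_def, mul_one, mul_one]
      exact sub_eq_zero.2 rfl
    · refine ⟨∅, fun B _ => ?_⟩
      rw [eval_single B _ (B.algebraMap_mem r),
        show (⟨algebraMap k A r, B.algebraMap_mem r⟩ : B) = algebraMap k B r from rfl,
        Derivation.map_algebraMap, TensorProduct.tmul_zero]

/-- The differentials of an ind-smooth algebra over a Noetherian ring are flat. -/
theorem flat_kaehler_of_indSmooth [IsNoetherianRing k] (h : Smoothing.IndSmooth k A) : Module.Flat A Ω[A⁄k] := by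
  classical
  rw [Module.Flat.iff_forall_exists_factorization]
  intro l f x hx
  choose z hz using fun i => KaehlerDifferential.linearCombination_surjective k A (x (Finsupp.single i 1))
  have hmem : (∑ i, f i • z i) ∈ KaehlerDifferential.kerTotal k A := by
    rw [← KaehlerDifferential.kerTotal_eq, LinearMap.mem_ker, map_sum]
    refine Eq.trans (Finset.sum_congr rfl fun i _ => by rw [map_smul, hz]) ?_
    conv_rhs => rw [← hx, ← Finsupp.univ_sum_single f, map_sum]
    refine Finset.sum_congr rfl fun i _ => ?_
    rw [← map_smul, Finsupp.smul_single, smul_eq_mul, mul_one]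
  obtain ⟨S, hS⟩ := exists_finset_eval_eq_zero _ hmem
  let T : Finset A := S ∪ Finset.univ.biUnion fun i => (z i).support
  let B : Subalgebra k A := Algebra.adjoin k (T : Set A)
  haveI : Algebra.FiniteType k B := (Subalgebra.fg_iff_finiteType B).1 ⟨T, rfl⟩
  haveI : Algebra.FinitePresentation k B := Algebra.FinitePresentation.of_finiteType.1 inferInstance
  obtain ⟨C, _, _, hC, g, hC', hgh⟩ := h B inferInstance B.val
  letI := hC
  letI : Algebra B C := g.toRingHom.toAlgebra
  letI : Algebra C A := hC'.toRingHom.toAlgebra
  haveI : IsScalarTower k B C := IsScalarTower.of_algebraMap_eq fun r => (g.commutes r).symm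
  haveI : IsScalarTower k C A := IsScalarTower.of_algebraMap_eq fun r => (hC'.commutes r).symm
  haveI : IsScalarTower B C A := IsScalarTower.of_algebraMap_eq fun b => (AlgHom.congr_fun hgh b).symm
  haveI : SMulCommClass C B A := ⟨fun c b a => by simp only [Algebra.smul_def]; ring⟩
  haveI : SMulCommClass B C A := SMulCommClass.symm C B A
  let ν : A ⊗[B] Ω[B⁄k] →ₗ[A] A ⊗[C] Ω[C⁄k] :=
    LinearMap.liftBaseChange A
      { toFun := fun w => (1 : A) ⊗ₜ[C] KaehlerDifferential.map k k B C w
        map_add' := fun w w' => by rw [map_add, TensorProduct.tmul_add]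
        map_smul' := fun b w => by
          rw [map_smul, RingHom.id_apply, ← IsScalarTower.algebraMap_smul C b (KaehlerDifferential.map k k B C w),
            TensorProduct.tmul_smul, TensorProduct.smul_tmul',
            ← IsScalarTower.algebraMap_smul A b ((1 : A) ⊗ₜ[C] KaehlerDifferential.map k k B C w),
            TensorProduct.smul_tmul', smul_eq_mul, mul_one, Algebra.smul_def, mul_one,
            ← IsScalarTower.algebraMap_apply] }
  let μ : A ⊗[C] Ω[C⁄k] →ₗ[A] Ω[A⁄k] := KaehlerDifferential.mapBaseChange k C A
  have key : ∀ w : A →₀ A, (↑w.support : Set A) ⊆ B →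
      μ (ν (eval B w)) = Finsupp.linearCombination A (KaehlerDifferential.D k A) w := fun w hw => by
    conv_lhs => rw [← w.sum_single]
    conv_rhs => rw [← w.sum_single]
    simp only [map_finsuppSum]
    refine Finsupp.sum_congr fun y hy => ?_
    rw [eval_single B y (hw hy), Finsupp.linearCombination_single]
    simp only [ν, LinearMap.liftBaseChange_tmul, map_smul]
    congr 1
    simp only [LinearMap.coe_mk, AddHom.coe_mk, μ, KaehlerDifferential.map_D,
      KaehlerDifferential.mapBaseChange_tmul, one_smul]
    exact congrArg (KaehlerDifferential.D k A) (AlgHom.congr_fun hgh ⟨y, hw hy⟩)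
  have hT : ∀ i, (↑(z i).support : Set A) ⊆ B := fun i y hy => Algebra.subset_adjoin
    (Finset.mem_coe.2 (Finset.mem_union_right _ (Finset.mem_biUnion.2 ⟨i, Finset.mem_univ _, hy⟩)))
  let x' : (Fin l →₀ A) →ₗ[A] A ⊗[C] Ω[C⁄k] := Finsupp.linearCombination A fun i => ν (eval B (z i))
  have hx' : μ ∘ₗ x' = x := Finsupp.lhom_ext fun i a => by
    rw [LinearMap.comp_apply, Finsupp.linearCombination_single, map_smul, key _ (hT i), hz, ← map_smul,
      Finsupp.smul_single, smul_eq_mul, mul_one]
  have hf0 : x' f = 0 := by
    rw [Finsupp.linearCombination_apply, Finsupp.sum_fintype _ _ (fun i => by simp)]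
    simp only [← map_smul, ← map_sum]
    rw [hS B fun y hy => Algebra.subset_adjoin (Finset.mem_coe.2 (Finset.mem_union_left _ hy)), map_zero]
  obtain ⟨n, a, y, hy, ha⟩ := Module.Flat.exists_factorization_of_apply_eq_zero_of_free hf0
  exact ⟨n, a, μ ∘ₗ y, by rw [LinearMap.comp_assoc, ← hy, hx'], ha⟩

/-- A regular ring over a finite field is geometrically regular. -/
theorem isGeometricallyRegular_of_perfect {k A : Type u} [Field k] [PerfectField k] [CommRing A] [Algebra k A]
    [IsRegularRing A] : CAlg.IsGeometricallyRegular k A := fun k' _ _ _ => by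
  haveI : Algebra.IsSeparable k k' := inferInstance
  haveI : Algebra.FormallyEtale k k' := Algebra.FormallyEtale.of_isSeparable k k'
  haveI : Algebra.FinitePresentation k k' := Algebra.FinitePresentation.of_finiteType.1 inferInstance
  haveI : Algebra.Etale k k' := { }
  haveI : Algebra.Etale A (A ⊗[k] k') := inferInstance
  haveI : Algebra.Smooth A (A ⊗[k] k') := inferInstance
  haveI : IsRegularRing (A ⊗[k] k') := CohenLib.isRegularRing_of_smooth A (A ⊗[k] k')
  exact IsRegularRing.of_ringEquiv (Algebra.TensorProduct.comm k A k').toRingEquiv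

/-- Differentials over the integers of a regular algebra over a perfect quotient field of the integers. -/
theorem flat_kaehler_int {A : Type u} (K : Type u) [Field K] [PerfectField K] [CommRing A] [Algebra K A]
    [IsRegularRing A] (hsurj : Function.Surjective (algebraMap ℤ K)) :
    Module.Flat A (KaehlerDifferential ℤ A) := by
  haveI : IsScalarTower ℤ K A := IsScalarTower.of_algebraMap_eq fun n => (map_intCast (algebraMap K A) n).symm
  have hK : Module.Flat A (KaehlerDifferential K A) := flat_kaehler_of_indSmooth
    (TransLib.indSmooth_of_isGeometricallyRegular isGeometricallyRegular_of_perfect)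
  haveI : Algebra.FormallyUnramified ℤ K := Algebra.FormallyUnramified.of_surjective (Algebra.ofId ℤ K) hsurj
  refine @Module.Flat.of_linearEquiv A _ _ _ _ _ _ _ hK (LinearEquiv.ofBijective (KaehlerDifferential.map ℤ K A A) ⟨?_, KaehlerDifferential.map_surjective ℤ K A⟩)
  refine (injective_iff_map_eq_zero _).2 fun w hw => ?_
  obtain ⟨v, rfl⟩ := ((KaehlerDifferential.exact_mapBaseChange_map ℤ K A) w).1 hw
  haveI : Subsingleton (TensorProduct K A (KaehlerDifferential ℤ K)) :=
    ⟨fun a b => by
      have h0 : ∀ t : TensorProduct K A (KaehlerDifferential ℤ K), t = 0 := fun t => by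
        induction t using TensorProduct.induction_on with
        | zero => rfl
        | tmul a b => rw [Subsingleton.elim b 0, TensorProduct.tmul_zero]
        | add a b ha hb => rw [ha, hb, add_zero]
      rw [h0 a, h0 b]⟩
  rw [Subsingleton.elim v 0, map_zero]

end KaehlerFlatLib
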