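import Mathlib

/-! Exterior powers of flat modules are flat. -/

set_option autoImplicit false
universe u

namespace KaehlerFlatLib

open exteriorPower

variable {A M : Type u} [CommRing A] [AddCommGroup M] [Module A M] (n : ℕ)

/-- Evaluation of formal exterior products through a map of formal symbols. -/
noncomputable def evalExt {G : Type u} [AddCommGroup G] [Module A G] (θ : (M →₀ A) →ₗ[A] G) :
    ((Fin n → M) →₀ A) →ₗ[A] ⋀[A]^n G :=
  Finsupp.linearCombination A fun m => ιMulti A n fun i => θ (Finsupp.single (m i) 1)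

theorem evalExt_single {G : Type u} [AddCommGroup G] [Module A G] (θ : (M →₀ A) →ₗ[A] G) (m : Fin n → M) :
    evalExt n θ (Finsupp.single m 1) = ιMulti A n fun i => θ (Finsupp.single (m i) 1) := by
  rw [evalExt, Finsupp.linearCombination_single, one_smul]

theorem exists_finset_evalExt_eq_zero (z : (Fin n → M) →₀ A)
    (hz : z ∈ Submodule.span A (Set.range (presentation A n M).relation)) :
    ∃ E : Finset (M →₀ A), (∀ e ∈ E, Finsupp.linearCombination A id e = (0 : M)) ∧
      ∀ (G : Type u) [AddCommGroup G] [Module A G] (θ : (M →₀ A) →ₗ[A] G),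
        (∀ e ∈ E, θ e = 0) → evalExt n θ z = 0 := by
  classical
  induction hz using Submodule.span_induction with
  | zero => exact ⟨∅, by simp, fun G _ _ θ _ => map_zero _⟩
  | add z z' _ _ h h' =>
    obtain ⟨E, h1, h2⟩ := h
    obtain ⟨E', h1', h2'⟩ := h'
    refine ⟨E ∪ E', fun e he => (Finset.mem_union.1 he).elim (h1 e) (h1' e), fun G _ _ θ hθ => ?_⟩
    rw [map_add, h2 G θ fun e he => hθ e (Finset.mem_union_left _ he),
      h2' G θ fun e he => hθ e (Finset.mem_union_right _ he), add_zero]
  | smul a z _ h =>
    obtain ⟨E, h1, h2⟩ := h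
    exact ⟨E, h1, fun G _ _ θ hθ => by rw [map_smul, h2 G θ hθ, smul_zero]⟩
  | mem z hz =>
    have hup : ∀ {G : Type u} [AddCommGroup G] [Module A G] (θ : (M →₀ A) →ₗ[A] G) (m : Fin n → M) (i : Fin n) (x : M),
        (fun j => θ (Finsupp.single (Function.update m i x j) 1)) =
          Function.update (fun j => θ (Finsupp.single (m j) 1)) i (θ (Finsupp.single x 1)) := fun θ m i x => by
      funext j
      by_cases h : j = i
      · subst h; simp
      · simp [Function.update_of_ne h]
    rcases hz with ⟨(⟨m, i, x, y⟩ | ⟨m, i, r, x⟩ | ⟨m, i, j, hm, hij⟩), rfl⟩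
    · refine ⟨{Finsupp.single x 1 + Finsupp.single y 1 - Finsupp.single (x + y) 1}, fun e he => ?_, fun G _ _ θ hθ => ?_⟩
      · obtain rfl := Finset.mem_singleton.1 he; simp
      · have h := hθ _ (Finset.mem_singleton_self _)
        rw [map_sub, map_add, sub_eq_zero] at h
        simp only [presentation_relation, presentation.relations_relation, map_sub, map_add, evalExt_single, hup]
        rw [← h, AlternatingMap.map_update_add, sub_self]
    · refine ⟨{Finsupp.single (r • x) 1 - r • Finsupp.single x 1}, fun e he => ?_, fun G _ _ θ hθ => ?_⟩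
      · obtain rfl := Finset.mem_singleton.1 he; simp
      · have h := hθ _ (Finset.mem_singleton_self _)
        rw [map_sub, map_smul, sub_eq_zero] at h
        show evalExt n θ (Finsupp.single (Function.update m i (r • x)) 1 -
          r • Finsupp.single (Function.update m i x) 1) = 0
        rw [map_sub, map_smul, evalExt_single, evalExt_single, hup, hup, h, AlternatingMap.map_update_smul, sub_self]
    · refine ⟨∅, by simp, fun G _ _ θ _ => ?_⟩
      simp only [presentation_relation, presentation.relations_relation, evalExt_single]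
      exact AlternatingMap.map_eq_zero_of_eq _ _ (by simp [hm]) hij

theorem flat_exteriorPower [Module.Flat A M] : Module.Flat A (⋀[A]^n M) := by
  classical
  rw [Module.Flat.iff_forall_exists_factorization]
  intro l f x hx
  let P := presentation A n M
  have hπ : ∀ z : (Fin n → M) →₀ A, P.π z = Finsupp.linearCombination A (fun m => ιMulti A n m) z := fun z => rfl
  have hex : ∀ i : Fin l, ∃ w : (Fin n → M) →₀ A, P.π w = x (Finsupp.single i 1) := fun i =>
    P.toIsPresentation.surjective_π (x (Finsupp.single i 1))
  choose z hz using hex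
  have hmem : (∑ i, f i • z i) ∈ Submodule.span A (Set.range P.relation) := by
    refine P.toIsPresentation.ker_π.le (LinearMap.mem_ker.2 ?_)
    refine (map_sum P.π _ _).trans ?_
    conv_rhs => rw [← hx, ← Finsupp.univ_sum_single f, map_sum]
    refine Finset.sum_congr rfl fun i _ => ?_
    refine (map_smul P.π (f i) (z i)).trans ?_
    refine (congrArg (f i • ·) (hz i)).trans ?_
    show f i • x (Finsupp.single i 1) = _
    rw [← map_smul, Finsupp.smul_single, smul_eq_mul, mul_one]
  obtain ⟨E, hE, hE'⟩ := exists_finset_evalExt_eq_zero n _ hmem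
  let S : Finset M := (E.biUnion fun e => e.support) ∪
    Finset.univ.biUnion fun i : Fin l => (z i).support.biUnion fun m => Finset.univ.image m
  let x₀ : (S →₀ A) →ₗ[A] M := Finsupp.linearCombination A (fun s : S => (s : M))
  let rS : (M →₀ A) →ₗ[A] (S →₀ A) := Finsupp.linearCombination A fun m => if h : m ∈ S then Finsupp.single ⟨m, h⟩ 1 else 0
  have hrS : ∀ e : M →₀ A, e.support ⊆ S → x₀ (rS e) = Finsupp.linearCombination A id e := fun e he => by
    simp only [rS, Finsupp.linearCombination_apply, Finsupp.sum, map_sum, map_smul]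
    refine Finset.sum_congr rfl fun m hm => ?_
    rw [dif_pos (he hm)]
    simp [x₀]
  let K : (E →₀ A) →ₗ[A] (S →₀ A) := Finsupp.linearCombination A fun e : E => rS e
  have hK : x₀ ∘ₗ K = 0 := Finsupp.lhom_ext fun e a => by
    rw [LinearMap.comp_apply, Finsupp.linearCombination_single, map_smul,
      hrS _ (fun m hm => Finset.mem_union_left _ (Finset.mem_biUnion.2 ⟨e, e.2, hm⟩)), hE _ e.2, smul_zero,
      LinearMap.zero_apply]
  obtain ⟨k, a, y, hy, ha⟩ := Module.Flat.exists_factorization_of_comp_eq_zero_of_free hK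
  let θ : (M →₀ A) →ₗ[A] (Fin k →₀ A) := a ∘ₗ rS
  have h0 : evalExt n θ (∑ i, f i • z i) = 0 := hE' _ θ fun e he => by
    have := LinearMap.congr_fun ha (Finsupp.single ⟨e, he⟩ 1)
    simpa [θ, K] using this
  have key : ∀ i, exteriorPower.map n y (evalExt n θ (z i)) = P.π (z i) := fun i => by
    rw [hπ]
    simp only [evalExt, Finsupp.linearCombination_apply, map_finsuppSum]
    refine Finsupp.sum_congr fun m hm => ?_
    rw [map_smul, exteriorPower.map_apply_ιMulti]
    congr 2
    funext j
    have hS : m j ∈ S := Finset.mem_union_right _ (Finset.mem_biUnion.2 ⟨i, Finset.mem_univ _,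
      Finset.mem_biUnion.2 ⟨m, hm, Finset.mem_image.2 ⟨j, Finset.mem_univ _, rfl⟩⟩⟩)
    show y (a (rS (Finsupp.single (m j) 1))) = m j
    rw [← LinearMap.comp_apply y a, ← hy, hrS _ (fun w hw => by
      rw [Finset.mem_singleton.1 (Finsupp.support_single_subset hw)]; exact hS)]
    simp
  let x' : (Fin l →₀ A) →ₗ[A] ⋀[A]^n (Fin k →₀ A) := Finsupp.linearCombination A fun i => evalExt n θ (z i)
  have hx' : exteriorPower.map n y ∘ₗ x' = x := Finsupp.lhom_ext fun i r => by
    rw [LinearMap.comp_apply, Finsupp.linearCombination_single, map_smul, key, hz, ← map_smul,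
      Finsupp.smul_single, smul_eq_mul, mul_one]
  have hf0 : x' f = 0 := by
    rw [Finsupp.linearCombination_apply, Finsupp.sum_fintype _ _ (fun i => by simp)]
    simp only [← map_smul, ← map_sum]
    exact h0
  obtain ⟨m, b, w, hw, hb⟩ := Module.Flat.exists_factorization_of_apply_eq_zero_of_free hf0
  exact ⟨m, b, exteriorPower.map n y ∘ₗ w, by rw [LinearMap.comp_assoc, ← hw, hx'], hb⟩

end KaehlerFlatLib
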